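import Groth.Agent.InvQ.K702.FormsStab
import Mathlib.Data.Fin.Tuple.Sort

/-!
# Stability of plane quartics

Combinatorial analysis of the numerical criterion for ternary quartics (`K702.FormsStab.isStableVec_iff`).
-/

set_option autoImplicit false
universe u

namespace K875.Quartic

open CoordGrp K702.Forms K702.FormsStab

variable {k : Type u} [Field k]

section Perm
variable {n d : ℕ}

/-- Substitution by a permutation matrix is renaming the variables. -/
theorem sub_perm (σ : Equiv.Perm (Fin n)) (F : MvPolynomial (Fin n) k) :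
    sub ((1 : Matrix (Fin n) (Fin n) k).submatrix σ id) F = MvPolynomial.rename σ F := by
  have h : sub ((1 : Matrix (Fin n) (Fin n) k).submatrix σ id) = MvPolynomial.rename σ := by
    apply MvPolynomial.algHom_ext
    intro i
    rw [sub_X, MvPolynomial.rename_X, Finset.sum_eq_single (σ i)]
    · rw [Matrix.submatrix_apply, id, Matrix.one_apply_eq, MvPolynomial.C_1, one_mul]
    · intro j _ hj
      rw [Matrix.submatrix_apply, id, Matrix.one_apply_ne (Ne.symm hj)]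
      simp
    · intro h; exact absurd (Finset.mem_univ _) h
  rw [h]

theorem mapDomain_apply_perm (σ : Equiv.Perm (Fin n)) (m : Fin n →₀ ℕ) (j : Fin n) :
    (m.mapDomain σ) (σ j) = m j := Finsupp.mapDomain_apply σ.injective m j

theorem degree_mapDomain (σ : Equiv.Perm (Fin n)) (m : Fin n →₀ ℕ) :
    (m.mapDomain σ).degree = m.degree := by
  rw [Finsupp.degree_eq_sum, Finsupp.degree_eq_sum, ← Equiv.sum_comp σ]
  exact Finset.sum_congr rfl fun j _ => mapDomain_apply_perm σ m j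

/-- Sorting the weights. -/
theorem exists_sorted (a : FormIdx n d → k) (M : Matrix (Fin n) (Fin n) k) (hM : M.det ≠ 0)
    (r : Fin n → ℤ) (hr : ∑ j, r j = 0)
    (h : ∀ m : FormIdx n d, MvPolynomial.coeff m.1 (sub M (formPoly a)) ≠ 0 →
      0 ≤ ∑ j, (m.1 j : ℤ) * r j) (hne : r ≠ 0) :
    ∃ (M' : Matrix (Fin n) (Fin n) k) (s : Fin n → ℤ), M'.det ≠ 0 ∧ ∑ j, s j = 0 ∧ Monotone s ∧
      s ≠ 0 ∧ ∀ m : FormIdx n d, MvPolynomial.coeff m.1 (sub M' (formPoly a)) ≠ 0 →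
        0 ≤ ∑ j, (m.1 j : ℤ) * s j := by
  let σ := Tuple.sort r
  refine ⟨M * ((1 : Matrix (Fin n) (Fin n) k).submatrix σ.symm id), r ∘ σ, ?_, ?_,
    Tuple.monotone_sort r, ?_, ?_⟩
  · rw [Matrix.det_mul, Matrix.det_permute, Matrix.det_one, mul_one]
    refine mul_ne_zero hM ?_
    rcases Int.units_eq_one_or (Equiv.Perm.sign σ.symm) with h1 | h1 <;> rw [h1] <;> simp
  · rw [← hr]
    exact Equiv.sum_comp σ r
  · intro h0
    apply hne
    funext j
    have := congrFun h0 (σ.symm j)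
    simpa using this
  · intro m hm
    rw [← K702.Forms.sub_sub, sub_perm] at hm
    have h1 : m.1 = (m.1.mapDomain σ).mapDomain σ.symm := by
      rw [← Finsupp.mapDomain_comp]
      simp
    rw [h1, MvPolynomial.coeff_rename_mapDomain _ σ.symm.injective] at hm
    have h2 := h ⟨m.1.mapDomain σ, by rw [degree_mapDomain]; exact m.2⟩ hm
    refine h2.trans_eq ?_
    rw [← Equiv.sum_comp σ]
    exact Finset.sum_congr rfl fun j _ => by
      rw [mapDomain_apply_perm]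
      rfl

end Perm

/-- The exponent `x₀^(4-i-j) x₁^i x₂^j`. -/
noncomputable def ex (i j : ℕ) : Fin 3 →₀ ℕ :=
  Finsupp.single 0 (4 - i - j) + Finsupp.single 1 i + Finsupp.single 2 j

theorem ex_zero (i j : ℕ) : ex i j 0 = 4 - i - j := by simp [ex]
theorem ex_one (i j : ℕ) : ex i j 1 = i := by simp [ex]
theorem ex_two (i j : ℕ) : ex i j 2 = j := by simp [ex]

theorem degree_ex (i j : ℕ) (h : i + j ≤ 4) : (ex i j).degree = 4 := by
  rw [Finsupp.degree_eq_sum, Fin.sum_univ_three, ex_zero, ex_one, ex_two]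
  omega

theorem eq_ex (m : FormIdx 3 4) : m.1 = ex (m.1 1) (m.1 2) := by
  have h := m.2
  rw [Finsupp.degree_eq_sum, Fin.sum_univ_three] at h
  ext i
  fin_cases i
  · change m.1 0 = ex (m.1 1) (m.1 2) 0
    rw [ex_zero]; omega
  · change m.1 1 = ex (m.1 1) (m.1 2) 1
    rw [ex_one]
  · change m.1 2 = ex (m.1 1) (m.1 2) 2
    rw [ex_two]

theorem coeff_eq_zero {F : MvPolynomial (Fin 3) k} {s : Fin 3 → ℤ}
    (h : ∀ m : FormIdx 3 4, MvPolynomial.coeff m.1 F ≠ 0 → 0 ≤ ∑ j, (m.1 j : ℤ) * s j)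
    (i j : ℕ) (hij : i + j ≤ 4) (hneg : ((4 - i - j : ℕ) : ℤ) * s 0 + i * s 1 + j * s 2 < 0) :
    MvPolynomial.coeff (ex i j) F = 0 := by
  by_contra hne
  have := h ⟨ex i j, degree_ex i j hij⟩ hne
  rw [Fin.sum_univ_three] at this
  change 0 ≤ ((ex i j 0 : ℕ) : ℤ) * s 0 + ((ex i j 1 : ℕ) : ℤ) * s 1 + ((ex i j 2 : ℕ) : ℤ) * s 2 at this
  rw [ex_zero, ex_one, ex_two] at this
  omega

/-- The vanishing conditions. -/
def Bad (F : MvPolynomial (Fin 3) k) : Prop :=
  (MvPolynomial.coeff (ex 0 0) F = 0 ∧ MvPolynomial.coeff (ex 1 0) F = 0 ∧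
    MvPolynomial.coeff (ex 0 1) F = 0 ∧ MvPolynomial.coeff (ex 2 0) F = 0 ∧
    MvPolynomial.coeff (ex 1 1) F = 0) ∧
    (MvPolynomial.coeff (ex 0 2) F = 0 ∨ MvPolynomial.coeff (ex 3 0) F = 0)

theorem bad_of_weights {F : MvPolynomial (Fin 3) k} {s : Fin 3 → ℤ} (hs : ∑ j, s j = 0)
    (hmono : Monotone s) (hne : s ≠ 0)
    (h : ∀ m : FormIdx 3 4, MvPolynomial.coeff m.1 F ≠ 0 → 0 ≤ ∑ j, (m.1 j : ℤ) * s j) : Bad F := by
  rw [Fin.sum_univ_three] at hs
  have h01 : s 0 ≤ s 1 := hmono (by decide)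
  have h12 : s 1 ≤ s 2 := hmono (by decide)
  have h0 : s 0 < 0 := by
    by_contra h0
    apply hne
    funext j
    fin_cases j
    · change s 0 = 0; omega
    · change s 1 = 0; omega
    · change s 2 = 0; omega
  refine ⟨⟨?_, ?_, ?_, ?_, ?_⟩, ?_⟩
  · exact coeff_eq_zero h 0 0 (by omega) (by push_cast; omega)
  · exact coeff_eq_zero h 1 0 (by omega) (by push_cast; omega)
  · exact coeff_eq_zero h 0 1 (by omega) (by push_cast; omega)
  · exact coeff_eq_zero h 2 0 (by omega) (by push_cast; omega)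
  · exact coeff_eq_zero h 1 1 (by omega) (by push_cast; omega)
  · by_cases h1 : 0 < s 1
    · exact Or.inl (coeff_eq_zero h 0 2 (by omega) (by push_cast; omega))
    · exact Or.inr (coeff_eq_zero h 3 0 (by omega) (by push_cast; omega))

theorem exists_weights {F : MvPolynomial (Fin 3) k} (hF : Bad F) :
    ∃ s : Fin 3 → ℤ, ∑ j, s j = 0 ∧ s ≠ 0 ∧
      ∀ m : FormIdx 3 4, MvPolynomial.coeff m.1 F ≠ 0 → 0 ≤ ∑ j, (m.1 j : ℤ) * s j := by
  obtain ⟨⟨h00, h10, h01, h20, h11⟩, h⟩ := hF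
  have key : ∀ (s : Fin 3 → ℤ), (∀ i j : ℕ, i + j ≤ 4 → MvPolynomial.coeff (ex i j) F ≠ 0 →
      0 ≤ ((4 - i - j : ℕ) : ℤ) * s 0 + i * s 1 + j * s 2) →
      ∀ m : FormIdx 3 4, MvPolynomial.coeff m.1 F ≠ 0 → 0 ≤ ∑ j, (m.1 j : ℤ) * s j := by
    intro s hs m hm
    have hd := m.2
    rw [Finsupp.degree_eq_sum, Fin.sum_univ_three] at hd
    rw [eq_ex m] at hm
    have := hs (m.1 1) (m.1 2) (by omega) hm
    rw [Fin.sum_univ_three]
    have h0 : (4 - m.1 1 - m.1 2 : ℕ) = m.1 0 := by omega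
    rw [h0] at this
    exact this
  rcases h with h | h
  · refine ⟨![-2, 1, 1], by simp [Fin.sum_univ_three], ?_, key _ ?_⟩
    · intro h0
      have := congrFun h0 0
      simp at this
    · intro i j hij hne
      simp only [Matrix.cons_val_zero, Matrix.cons_val_one, Matrix.cons_val]
      by_contra hlt
      have h2 : i + j ≤ 2 := by omega
      have : (i = 0 ∧ j = 0) ∨ (i = 1 ∧ j = 0) ∨ (i = 0 ∧ j = 1) ∨ (i = 2 ∧ j = 0) ∨ (i = 1 ∧ j = 1) ∨
        (i = 0 ∧ j = 2) := by omega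
      rcases this with ⟨rfl, rfl⟩ | ⟨rfl, rfl⟩ | ⟨rfl, rfl⟩ | ⟨rfl, rfl⟩ | ⟨rfl, rfl⟩ | ⟨rfl, rfl⟩
      · exact hne h00
      · exact hne h10
      · exact hne h01
      · exact hne h20
      · exact hne h11
      · exact hne h
  · refine ⟨![-1, 0, 1], by simp [Fin.sum_univ_three], ?_, key _ ?_⟩
    · intro h0
      have := congrFun h0 0
      simp at this
    · intro i j hij hne
      simp only [Matrix.cons_val_zero, Matrix.cons_val_one, Matrix.cons_val]
      by_contra hlt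
      have h2 : i + 2 * j < 4 := by omega
      have : (i = 0 ∧ j = 0) ∨ (i = 1 ∧ j = 0) ∨ (i = 0 ∧ j = 1) ∨ (i = 2 ∧ j = 0) ∨ (i = 1 ∧ j = 1) ∨
        (i = 3 ∧ j = 0) := by omega
      rcases this with ⟨rfl, rfl⟩ | ⟨rfl, rfl⟩ | ⟨rfl, rfl⟩ | ⟨rfl, rfl⟩ | ⟨rfl, rfl⟩ | ⟨rfl, rfl⟩
      · exact hne h00
      · exact hne h10
      · exact hne h01
      · exact hne h20
      · exact hne h11
      · exact hne h

theorem bad_smul {M : Matrix (Fin 3) (Fin 3) k} (c : k) (a : FormIdx 3 4 → k)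
    (h : Bad (sub M (formPoly a))) : Bad (sub (c • M) (formPoly a)) := by
  have key : ∀ i j : ℕ, i + j ≤ 4 → MvPolynomial.coeff (ex i j) (sub M (formPoly a)) = 0 →
      MvPolynomial.coeff (ex i j) (sub (c • M) (formPoly a)) = 0 := by
    intro i j hij h0
    have := coeff_sub_smul c M a ⟨ex i j, degree_ex i j hij⟩
    rw [this, h0, mul_zero]
  obtain ⟨⟨h00, h10, h01, h20, h11⟩, h⟩ := h
  refine ⟨⟨key _ _ (by omega) h00, key _ _ (by omega) h10, key _ _ (by omega) h01,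
    key _ _ (by omega) h20, key _ _ (by omega) h11⟩, ?_⟩
  rcases h with h | h
  · exact Or.inl (key _ _ (by omega) h)
  · exact Or.inr (key _ _ (by omega) h)

theorem not_isStableVec_iff [IsAlgClosed k] [CharZero k] (a : FormIdx 3 4 → k) :
    ¬ @GLin.IsStableVec k _ (SLn 3 k) _ _ (FormIdx 3 4) (coactF k 3 4) (coactF_isCoactAlg k 3 4) a ↔
      ∃ M : Matrix (Fin 3) (Fin 3) k, M.det = 1 ∧ Bad (sub M (formPoly a)) := by
  rw [isStableVec_iff (by exact_mod_cast Nat.factorial_ne_zero 4)]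
  push Not
  constructor
  · rintro ⟨M, hM, r, hr, h, hne⟩
    obtain ⟨M', s, hM', hs, hmono, hs0, h'⟩ := exists_sorted a M hM r hr h hne
    have hbad := bad_of_weights hs hmono hs0 h'
    obtain ⟨c, hc⟩ := IsAlgClosed.exists_pow_nat_eq (M'.det)⁻¹ (show 0 < 3 by norm_num)
    refine ⟨c • M', ?_, bad_smul c a hbad⟩
    rw [Matrix.det_smul, Fintype.card_fin, hc, inv_mul_cancel₀ hM']
  · rintro ⟨M, hM, hbad⟩
    obtain ⟨s, hs, hs0, h⟩ := exists_weights hbad
    exact ⟨M, by rw [hM]; exact one_ne_zero, s, hs, h, hs0⟩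

end K875.Quartic
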